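import Mathlib
import Cfsg.Agent.H346.DP.Words
import Cfsg.Agent.H346.DP.Node
import Cfsg.Agent.UGT.U2.FOne.TwESixQs
import Cfsg.Agent.S1070

/-!
The Coxeter trick for `²E₆(q)` (S2454): the node hypothesis `NodesE` and `pw_of_nodes`.

The relative type is `F₄`, the nodes `0, 1` are long (`F_q`), the nodes `2, 3` are short (`F_{q²}`); the homomorphism of
the node `i` is `UGT.U2.FOne.TwESix.P hφ hqq i : SL(2, Fx φ ((rest i).length + 1)) →* twistedE6 K q`.
-/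

set_option autoImplicit false
set_option linter.unusedSectionVars false

namespace Cfsg.Agent.H344.DP

open CoxeterSystem Cfsg.Agent.ChevalleyStructure.CoxeterGeom Cfsg.Agent.Tits.Roots Cfsg.Agent.Tits.Core
  Cfsg.Agent.Nodes.BNOf Cfsg.Agent.Nodes.RGDLib Cfsg.Agent.Nodes.RGDFoldSL Cfsg.Agent.Nodes.RGDTwE6
  Cfsg.Agent.UGT.U2.FOne.TwESix
open Cfsg.Agent.H514.DP (PE IsPE PW)
open Cfsg.Agent.Nodes.RGDTwNode.E6 (nodeOK eps_one rest)
open Cfsg.Lie

universe u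

/-! ### The word of the longest element of `F₄` -/

/-- the Coxeter word of `F₄` -/
def wF4 : List (Fin 4) := [0, 1, 2, 3]

abbrev csF4 : CoxeterSystem CoxeterMatrix.F₄ CoxeterMatrix.F₄.Group := CoxeterMatrix.F₄.toCoxeterSystem

theorem red_F4 : csF4.length (csF4.wordProd (List.replicate 6 wF4).flatten) = (List.replicate 6 wF4).flatten.length :=
  H346.DP.chkF.tok.red Cfsg.Agent.Nodes.KindF.isType

theorem long_F4 {A : Fin 4 → Fin 4 → ℤ} (h : IsCartan CoxeterMatrix.F₄ A) (i : Fin 4) :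
    rep csF4 h (csF4.wordProd (List.replicate 6 wF4).flatten) (sr i) ≤ 0 :=
  (lt_iff csF4 h _ i).1 ((lt_iff csF4 Cfsg.Agent.Nodes.KindF.isType.isCartan _ i).2 (H346.DP.chkF.tok.long Cfsg.Agent.Nodes.KindF.isType i))

theorem conn_F4 : ∀ J : Set (Fin 4), J.Nonempty → J ≠ Set.univ → ∃ a ∈ J, ∃ b, b ∉ J ∧ CoxeterMatrix.F₄ a b ≠ 2 :=
  Cfsg.Agent.Nodes.ChevChart.irr_of Cfsg.Agent.Nodes.ChevChart.irrF

section

variable {K : Type u} [Field K] [Fintype K] {q : ℕ} {φ : K →+* K} (hφ : ∀ x, φ x = x ^ q)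
  (hqq : ∀ t : K, (t ^ q) ^ q = t)

/-- the node hypothesis: the elements `x_i(t) n_i` are products of `m i` `p`-elements, `∑ m i ≤ 35` -/
def NodesE (p : ℕ) : Prop :=
  ∃ m : Fin 4 → ℕ, m 0 + m 1 + m 2 + m 3 ≤ 35 ∧ ∀ (i : Fin 4) (t : Fx φ ((rest i).length + 1)),
    PE p (m i) (P hφ hqq i (OddHalf.NI.Mult.up t * OddHalf.NI.Mult.nn 1))

include hφ hqq in
theorem notMem_core [IsSimpleGroup ↥(twistedE6 K q)] {g : ↥(twistedE6 K q)} (hg : g ≠ 1) :
    g ∉ (RGD.B csF4 isCartan (T K q) (X φ q)).normalCore := by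
  obtain ⟨r, hr⟩ := CharP.exists K
  have : Fact r.Prime := ⟨CharP.char_is_prime K r⟩
  have := Cfsg.Agent.KFacts.TwESix.Comb.finiteW csF4
  intro h1
  have h2 := H162.GaussMain.core_le_ker (rgd csF4 hφ hqq r) (MonoidHom.id _)
    Function.surjective_id (fun x hx => by
      rw [MonoidHom.mem_ker] at hx
      change x = 1 at hx
      rw [hx]
      exact one_mem _) h1
  exact hg h2

/-- **The Coxeter trick for `²E₆(q)`.** -/
theorem pw_of_nodes [IsSimpleGroup ↥(twistedE6 K q)] {p : ℕ} (h : NodesE hφ hqq p) : PW p 70 ↥(twistedE6 K q) := by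
  obtain ⟨m, hm, hN⟩ := h
  intro g
  by_cases hg : g = 1
  · subst hg
    exact H514.DP.pe_one_elt 70
  obtain ⟨r, hr⟩ := CharP.exists K
  have : Fact r.Prime := ⟨CharP.char_is_prime K r⟩
  have := Cfsg.Agent.KFacts.TwESix.Comb.finiteW csF4
  refine (H346.DP.pe_of_nodes (rgd csF4 hφ hqq r) (G1_eq_top csF4 hφ hqq) (coordP hφ hqq) conn_F4 rfl red_F4
    (long_F4 isCartan) hN (notMem_core hφ hqq hg)).mono ?_
  simp [wF4]
  omega

include hφ hqq in
/-- the own characteristic -/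
theorem pw_own {r : ℕ} [Fact r.Prime] [CharP K r] [IsSimpleGroup ↥(twistedE6 K q)] : PW r 2 ↥(twistedE6 K q) := by
  intro g
  by_cases hg : g = 1
  · subst hg
    exact H514.DP.pe_one_elt 2
  have := Cfsg.Agent.KFacts.TwESix.Comb.finiteW csF4
  exact H346.DP.pe_own (rgd csF4 hφ hqq r) (G1_eq_top csF4 hφ hqq) (coordP hφ hqq) conn_F4 (notMem_core hφ hqq hg)

/-- `NodesE` from `NodeP` -/
theorem nodesE_of {p a b : ℕ} (hab : a + b ≤ 17) (h1 : H346.DP.NodeP (X φ q) p a 0) (h2 : H346.DP.NodeP (X φ q) p a 1)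
    (h3 : H346.DP.NodeP (X φ q) p b 2) (h4 : H346.DP.NodeP (X φ q) p b 3) : NodesE hφ hqq p := by
  obtain ⟨r, hr⟩ := CharP.exists K
  have : Fact r.Prime := ⟨CharP.char_is_prime K r⟩
  have := Cfsg.Agent.KFacts.TwESix.Comb.finiteW csF4
  refine ⟨![a, a, b, b], ?_, fun i t => ?_⟩
  · simp
    omega
  · have h : H346.DP.NodeP (X φ q) p ((![a, a, b, b] : Fin 4 → ℕ) i) i := by
      fin_cases i
      · exact h1
      · exact h2
      · exact h3
      · exact h4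
    exact h.nodes (rgd csF4 hφ hqq r) (coordP hφ hqq) t

/-- **`²E₆(q)` from its nodes.** -/
theorem pw_of_nodesE (hq : IsPrimePow q) (hK : Fintype.card K = q ^ 2) {p : ℕ}
    (hN : ∀ {φ : K →+* K} (hφ : ∀ x, φ x = x ^ q) (hqq : ∀ t : K, (t ^ q) ^ q = t) {r : ℕ} [Fact r.Prime] [CharP K r],
      p ≠ r → NodesE hφ hqq p) : PW p 70 ↥(twistedE6 K q) := by
  obtain ⟨φ, hφ, hqq⟩ := Cfsg.Agent.ChevalleyStructure.TwE6Basic.exists_frob hq hK
  have hs : IsSimpleGroup ↥(twistedE6 K q) := (Cfsg.Agent.S1070.result (K := K) hq hK).1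
  obtain ⟨r, hr⟩ := CharP.exists K
  have : Fact r.Prime := ⟨CharP.char_is_prime K r⟩
  by_cases hpr : p = r
  · subst hpr
    exact (pw_own hφ hqq).mono (by norm_num)
  · exact pw_of_nodes hφ hqq (hN hφ hqq hpr)

end

end Cfsg.Agent.H344.DP
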