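import Cfsg.Agent.S0799

/-!
# Factorizations of `SL₂(Q)`, `8 ∣ Q - 1` (for S4247)

* `tame` : a `p'`-subgroup of `PSL₂(F)` has order at most `|F| + 1` or 12, 24, 60 (Dickson);
* `no_fact` : `SL₂(F)`, `8 ∣ |F| - 1`, is not a product `A D` with `A` upper triangular, `4 ∤ |A|`, and `D` a `p'`-group.
-/

set_option autoImplicit false

open Matrix

namespace Cfsg.Agent.H344.DP

/-- the group `PSL₂(F)` -/
abbrev P2 (F : Type*) [Field F] := Matrix.ProjectiveSpecialLinearGroup (Fin 2) F

/-- the group `SL₂(F)` -/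
abbrev L2 (F : Type*) [Field F] := Matrix.SpecialLinearGroup (Fin 2) F

section tame

open MulAction OnePoint
open Cfsg.Agent.ClassicalGeometry.PoleCount Cfsg.Agent.ClassicalGeometry.PoleCount.Pole
open Cfsg.Agent.ClassicalGeometry.PoleBridge
open Cfsg.Agent.ClassicalGeometry.PoleCases Cfsg.Agent.ClassicalGeometry.DicksonWild
open Cfsg.Agent.ClassicalGeometry.PSL2Basic Cfsg.Agent.ClassicalGeometry.PSL2ElemOrder
open Cfsg.Agent.Lib.Mobius

/-- **Dickson's theorem for `p'`-subgroups**, orders only -/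
theorem tame {F : Type*} [Field F] [Fintype F] (p : ℕ) [Fact p.Prime] [CharP F p] (H : Subgroup (P2 F))
    (h2 : 2 ∣ Fintype.card F - 1) (hp : ¬ p ∣ Nat.card H) :
    Nat.card H ≤ Fintype.card F + 1 ∨ Nat.card H = 12 ∨ Nat.card H = 24 ∨ Nat.card H = 60 := by
  classical
  have hq : 2 ≤ Fintype.card F := Fintype.one_lt_card
  have hg2 : Nat.gcd 2 (Fintype.card F - 1) = 2 := Nat.gcd_eq_left h2
  have hdivle : ∀ k : ℕ, (k ∣ (Fintype.card F + 1) / Nat.gcd 2 (Fintype.card F - 1) ∨
      k ∣ (Fintype.card F - 1) / Nat.gcd 2 (Fintype.card F - 1)) →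
      k * Nat.gcd 2 (Fintype.card F - 1) ≤ Fintype.card F + 1 := by
    intro k hk
    have hg : 0 < Nat.gcd 2 (Fintype.card F - 1) := Nat.gcd_pos_of_pos_left _ (by norm_num)
    have h1 : Nat.gcd 2 (Fintype.card F - 1) ∣ Fintype.card F - 1 := Nat.gcd_dvd_right _ _
    have h2 : Nat.gcd 2 (Fintype.card F - 1) ∣ 2 := Nat.gcd_dvd_left _ _
    have h3 : Nat.gcd 2 (Fintype.card F - 1) ∣ Fintype.card F + 1 := by
      have := dvd_add h1 h2
      rwa [show Fintype.card F - 1 + 2 = Fintype.card F + 1 by omega] at this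
    rcases hk with hk | hk
    · have h4 : k ≤ (Fintype.card F + 1) / Nat.gcd 2 (Fintype.card F - 1) :=
        Nat.le_of_dvd (Nat.div_pos (Nat.le_of_dvd (by omega) h3) hg) hk
      calc k * Nat.gcd 2 (Fintype.card F - 1) ≤ (Fintype.card F + 1) / Nat.gcd 2 (Fintype.card F - 1) *
          Nat.gcd 2 (Fintype.card F - 1) := Nat.mul_le_mul_right _ h4
        _ = Fintype.card F + 1 := Nat.div_mul_cancel h3
    · have h4 : k ≤ (Fintype.card F - 1) / Nat.gcd 2 (Fintype.card F - 1) :=
        Nat.le_of_dvd (Nat.div_pos (Nat.le_of_dvd (by omega) h1) hg) hk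
      calc k * Nat.gcd 2 (Fintype.card F - 1) ≤ (Fintype.card F - 1) / Nat.gcd 2 (Fintype.card F - 1) *
          Nat.gcd 2 (Fintype.card F - 1) := Nat.mul_le_mul_right _ h4
        _ = Fintype.card F - 1 := Nat.div_mul_cancel h1
        _ ≤ Fintype.card F + 1 := by omega
  have hdi : ∀ k : ℕ, k ≠ 0 → (k ∣ (Fintype.card F + 1) / Nat.gcd 2 (Fintype.card F - 1) ∨
      k ∣ (Fintype.card F - 1) / Nat.gcd 2 (Fintype.card F - 1)) →
      ((IsCyclic H ∧ Nat.card H = k) ∨ Nonempty (H ≃* DihedralGroup k)) → Nat.card H ≤ Fintype.card F + 1 := by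
    intro k hk0 hk h
    have h3 := hdivle k hk
    rw [hg2] at h3
    rcases h with ⟨-, h⟩ | ⟨⟨e⟩⟩
    · rw [h]; omega
    · rw [Nat.card_congr e.toEquiv, DihedralGroup.nat_card]; omega
  let K := AlgebraicClosure F
  have hK : CharP K p := charP_of_injective_algebraMap (algebraMap F K).injective p
  let ι : F →+* K := algebraMap F K
  let φ : H →* Matrix.ProjectiveSpecialLinearGroup (Fin 2) K := (pslMap ι).comp H.subtype
  have hφ : Function.Injective φ := (pslMap_injective ι).comp H.subtype_injective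
  let _ := act φ
  have pole : Pole p K H (OnePoint K) := pole_of_injective p φ hφ
  have hpow : ∀ g : H, g ≠ 1 → g ^ p ≠ 1 := by
    intro g hg hgp
    apply hp
    rw [← orderOf_eq_prime hgp hg]
    exact orderOf_dvd_natCard g
  have hcyc : ∀ x : OnePoint K, IsCyclic (stabilizer H x) := by
    intro x
    obtain ⟨χ, hχ⟩ := pole.chi x
    have hinj : Function.Injective χ := by
      rw [injective_iff_map_eq_one]
      intro g hg
      by_contra hne
      have h1 := (hχ g).mp hg
      exact hpow g (fun h => hne (Subtype.ext h)) (congrArg Subtype.val h1)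
    have hcoe : Function.Injective (Units.coeHom K) := Units.val_injective
    exact isCyclic_of_injective_ringHom ((Units.coeHom K).comp χ) (hcoe.comp hinj)
  have hpos : Nat.card H ≠ 0 := Nat.card_pos.ne'
  rcases Cfsg.Agent.ClassicalGeometry.PolePrime.pole_prime
    (fun (g : H) hg => pole.two g (hpow g hg)) hcyc with h1 | ⟨k, hk, h1⟩ | h1 | h1 | h1
  · left
    obtain ⟨k, hk, hk'⟩ := S0799.first_alt rfl p H hpos hp (Or.inl ⟨h1, rfl⟩)
    refine hdi k ?_ hk hk'
    rintro rfl
    rcases hk' with ⟨-, h⟩ | ⟨⟨e⟩⟩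
    · exact hpos h
    · rw [Nat.card_congr e.toEquiv, DihedralGroup.nat_card] at hpos
      exact hpos rfl
  · left
    have hkp : ¬ p ∣ k := by
      intro h2
      apply hp
      obtain ⟨e⟩ := h1
      rw [Nat.card_congr e.toEquiv, DihedralGroup.nat_card]
      exact h2.mul_left 2
    obtain ⟨k, hk, hk'⟩ := S0799.first_alt rfl p H (by omega) hkp (Or.inr h1)
    refine hdi k ?_ hk hk'
    rintro rfl
    rcases hk' with ⟨-, h⟩ | ⟨⟨e⟩⟩
    · exact hpos h
    · rw [Nat.card_congr e.toEquiv, DihedralGroup.nat_card] at hpos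
      exact hpos rfl
  · right; left
    obtain ⟨e⟩ := h1
    rw [Nat.card_congr e.toEquiv, nat_card_alternatingGroup, Nat.card_eq_fintype_card, Fintype.card_fin]
    rfl
  · right; right; left
    obtain ⟨e⟩ := h1
    rw [Nat.card_congr e.toEquiv, Nat.card_eq_fintype_card, Fintype.card_perm, Fintype.card_fin]
    rfl
  · right; right; right
    obtain ⟨e⟩ := h1
    rw [Nat.card_congr e.toEquiv, nat_card_alternatingGroup, Nat.card_eq_fintype_card, Fintype.card_fin]
    rfl

end tame

section sltwo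

open Subgroup Cfsg.Agent.ClassicalGeometry.PSL2Basic

theorem card_map_mul {G G' : Type*} [Group G] [Group G'] [Finite G] (f : G →* G') (hf : Function.Surjective f)
    (X : Subgroup G) (hX : f.ker ≤ X) : Nat.card (X.map f) * Nat.card f.ker = Nat.card X := by
  have hfin' : Finite G' := Finite.of_surjective f hf
  have h1 : (X.map f).index = X.index := by
    rw [← Subgroup.index_comap_of_surjective _ hf, Subgroup.comap_map_eq_self hX]
  have h2 := (X.map f).card_mul_index
  have h3 := X.card_mul_index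
  have h4 : Nat.card G = Nat.card G' * Nat.card f.ker := by
    rw [Subgroup.card_eq_card_quotient_mul_card_subgroup f.ker,
      Nat.card_congr (QuotientGroup.quotientKerEquivOfSurjective f hf).toEquiv]
  rw [h1] at h2
  have h0 : 0 < X.index := Nat.pos_of_ne_zero Subgroup.index_ne_zero_of_finite
  apply Nat.eq_of_mul_eq_mul_right h0
  rw [h3, h4, ← h2]
  ring

/-- the upper triangular matrices -/
def borel (F : Type*) [Field F] : Subgroup (L2 F) where
  carrier := {x | x.1 1 0 = 0}
  mul_mem' := by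
    intro x y hx hy
    have h1 : (x * y).1 1 0 = x.1 1 0 * y.1 0 0 + x.1 1 1 * y.1 1 0 := by
      change (x.1 * y.1) 1 0 = _
      rw [Matrix.mul_apply, Fin.sum_univ_two]
    change (x * y).1 1 0 = 0
    rw [h1, hx, hy, zero_mul, mul_zero, add_zero]
  one_mem' := rfl
  inv_mem' := by
    intro x hx
    change (x⁻¹).1 1 0 = 0
    rw [Matrix.SpecialLinearGroup.SL2_inv_expl]
    change -x.1 1 0 = 0
    rw [hx, neg_zero]

theorem mem_borel {F : Type*} [Field F] {x : L2 F} : x ∈ borel F ↔ x.1 1 0 = 0 := Iff.rfl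

theorem det_two {F : Type*} [Field F] (x : L2 F) : x.1 0 0 * x.1 1 1 - x.1 0 1 * x.1 1 0 = 1 := by
  rw [← Matrix.det_fin_two]; exact x.2

theorem card_borel (F : Type*) [Field F] [Fintype F] : Nat.card (borel F) = (Fintype.card F - 1) * Fintype.card F := by
  classical
  have e : borel F ≃ Fˣ × F :=
    { toFun := fun x => (⟨x.1.1 0 0, x.1.1 1 1, by
          have h := det_two x.1
          rw [mem_borel.1 x.2] at h
          linear_combination h, by
          have h := det_two x.1
          rw [mem_borel.1 x.2] at h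
          linear_combination h⟩, x.1.1 0 1)
      invFun := fun y => ⟨⟨!![(y.1 : F), y.2; 0, ((y.1⁻¹ : Fˣ) : F)], by simp [Matrix.det_fin_two]⟩, rfl⟩
      left_inv := fun x => by
        apply Subtype.ext
        apply Subtype.ext
        have h : x.1.1 1 0 = 0 := x.2
        ext i j
        fin_cases i <;> fin_cases j
        · rfl
        · rfl
        · exact h.symm
        · rfl
      right_inv := fun y => by
        apply Prod.ext
        · exact Units.ext rfl
        · rfl }
  rw [Nat.card_congr e, Nat.card_prod, Nat.card_eq_fintype_card, Nat.card_eq_fintype_card, Fintype.card_units]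

/-- the projection -/
abbrev pr (F : Type*) [Field F] : L2 F →* P2 F := QuotientGroup.mk' (Subgroup.center (L2 F))

theorem pr_surjective (F : Type*) [Field F] : Function.Surjective (pr F) := QuotientGroup.mk'_surjective _

/-- **No factorization of `SL₂(Q)`** -/
theorem no_fact {F : Type*} [Field F] [Fintype F] {p : ℕ} [Fact p.Prime] [CharP F p]
    (h8 : 8 ∣ Fintype.card F - 1) {A D : Subgroup (L2 F)} (hA : A ≤ borel F) (hAn : -1 ∈ A)
    (hAD : ∀ x : L2 F, ∃ a ∈ A, ∃ d ∈ D, x = a * d) (hA1 : Odd (Nat.card (A.map (pr F))))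
    (hD : ¬ p ∣ Nat.card (D.map (pr F))) : False := by
  have hQ2 : 2 ≤ Fintype.card F := Fintype.one_lt_card
  have hpQ : p ∣ Fintype.card F := by
    obtain ⟨n, -, hn⟩ := FiniteField.card F p
    rw [hn]
    exact dvd_pow_self p n.ne_zero
  obtain ⟨m, hm⟩ := h8
  obtain ⟨Q, hQ⟩ : ∃ Q, Q = Fintype.card F := ⟨_, rfl⟩
  rw [← hQ] at hm hQ2 hpQ
  have hodd : Odd (Fintype.card F) := by rw [← hQ]; exact ⟨4 * m, by omega⟩
  have h2 : (2 : F) ≠ 0 := (two_ne_zero_iff_odd F).2 hodd
  have hker : (pr F).ker = Subgroup.center (L2 F) := QuotientGroup.ker_mk' _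
  have hk2 : Nat.card (pr F).ker = 2 := by rw [hker]; exact card_center_SL2_odd h2
  have hkle : ∀ X : Subgroup (L2 F), -1 ∈ X → (pr F).ker ≤ X := by
    intro X hX z hz
    rw [hker, mem_center_SL2_iff] at hz
    rcases hz with rfl | rfl
    · exact X.one_mem
    · exact hX
  have c1 := card_map_mul (pr F) (pr_surjective F) A (hkle A hAn)
  rw [hk2] at c1
  have c3 : Nat.card (P2 F) * 2 = Q * (Q ^ 2 - 1) := by rw [hQ]; exact card_PSL2_odd F hodd
  have c4 : Nat.card A ∣ (Q - 1) * Q := by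
    rw [hQ, ← card_borel F]
    exact Subgroup.card_dvd_of_le hA
  -- the bound for `A`
  have b1 : 8 * Nat.card (A.map (pr F)) ≤ (Q - 1) * Q := by
    rw [← c1] at c4
    obtain ⟨t, ht⟩ := c4
    have h3 : 4 ∣ Nat.card (A.map (pr F)) * t := by
      refine ⟨m * Q, ?_⟩
      have : 2 * (Nat.card (A.map (pr F)) * t) = 2 * (4 * (m * Q)) := by
        calc 2 * (Nat.card (A.map (pr F)) * t) = Nat.card (A.map (pr F)) * 2 * t := by ring
          _ = (Q - 1) * Q := ht.symm
          _ = 2 * (4 * (m * Q)) := by rw [hm]; ring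
      exact Nat.eq_of_mul_eq_mul_left (by norm_num) this
    have h4 : Nat.Coprime 4 (Nat.card (A.map (pr F))) := by
      have : Nat.Coprime 2 (Nat.card (A.map (pr F))) := (Nat.coprime_two_left).2 hA1
      exact Nat.Coprime.pow_left 2 this
    obtain ⟨s, rfl⟩ := h4.dvd_of_dvd_mul_left h3
    have hs : 0 < s := by
      rcases Nat.eq_zero_or_pos s with rfl | h
      · exfalso
        rw [mul_zero, mul_zero] at ht
        have : 0 < (Q - 1) * Q := Nat.mul_pos (by omega) (by omega)
        omega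
      · exact h
    rw [ht]
    calc 8 * Nat.card (A.map (pr F)) = Nat.card (A.map (pr F)) * 2 * (4 * 1) := by ring
      _ ≤ Nat.card (A.map (pr F)) * 2 * (4 * s) := Nat.mul_le_mul_left _ (Nat.mul_le_mul_left _ hs)
  have hfinL : Finite (L2 F) := inferInstance
  have hfinP : Finite (P2 F) := Finite.of_surjective _ (pr_surjective F)
  -- the product
  have b2 : Nat.card (P2 F) ≤ Nat.card (A.map (pr F)) * Nat.card (D.map (pr F)) := by
    rw [← Nat.card_prod]
    refine Nat.card_le_card_of_surjective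
      (fun x : A.map (pr F) × D.map (pr F) => (x.1 : P2 F) * (x.2 : P2 F)) ?_
    intro x
    obtain ⟨y, rfl⟩ := pr_surjective F x
    obtain ⟨a, ha, d, hd, rfl⟩ := hAD y
    exact ⟨(⟨pr F a, a, ha, rfl⟩, ⟨pr F d, d, hd, rfl⟩), (map_mul (pr F) a d).symm⟩
  have b3 : 4 * (Q + 1) ≤ Nat.card (D.map (pr F)) := by
    obtain ⟨d, hd⟩ : ∃ d, d = Nat.card (D.map (pr F)) := ⟨_, rfl⟩
    obtain ⟨a, ha⟩ : ∃ a, a = Nat.card (A.map (pr F)) := ⟨_, rfl⟩
    rw [← hd]
    rw [← ha, ← hd] at b2
    rw [← ha] at b1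
    have h1 : Q ^ 2 - 1 = (Q - 1) * (Q + 1) := by
      obtain ⟨r, rfl⟩ : ∃ r, Q = r + 1 := ⟨Q - 1, by omega⟩
      simp only [Nat.add_sub_cancel]
      rw [Nat.sub_eq_iff_eq_add (by nlinarith)]
      ring
    rw [h1] at c3
    have hpos : 0 < 2 * ((Q - 1) * Q) := Nat.mul_pos (by norm_num) (Nat.mul_pos (by omega) (by omega))
    have h3 : 2 * ((Q - 1) * Q) * (4 * (Q + 1)) ≤ 2 * ((Q - 1) * Q) * d := by
      calc 2 * ((Q - 1) * Q) * (4 * (Q + 1)) = 8 * (Q * ((Q - 1) * (Q + 1))) := by ring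
        _ = 16 * Nat.card (P2 F) := by rw [← c3]; ring
        _ ≤ 16 * (a * d) := Nat.mul_le_mul_left _ b2
        _ = 2 * (8 * a) * d := by ring
        _ ≤ 2 * ((Q - 1) * Q) * d := Nat.mul_le_mul_right _ (Nat.mul_le_mul_left _ b1)
    exact Nat.le_of_mul_le_mul_left h3 hpos
  have hm1 : 1 ≤ m := by omega
  rcases tame p (D.map (pr F)) (by rw [← hQ]; exact ⟨4 * m, by omega⟩) hD with h | h | h | h
  · rw [← hQ] at h; omega
  · omega
  · omega
  · have hm' : m = 1 := by omega
    have hQ9 : Q = 9 := by omega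
    rw [hQ9] at hpQ
    have hp3 : p = 3 := by
      have h1 : p ∣ 3 := (Fact.out : p.Prime).dvd_of_dvd_pow (show p ∣ 3 ^ 2 from hpQ)
      exact (Nat.prime_dvd_prime_iff_eq Fact.out Nat.prime_three).1 h1
    apply hD
    rw [h, hp3]
    norm_num

end sltwo

end Cfsg.Agent.H344.DP
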